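import Groth.Agent.S0600
import Groth.Agent.S5785
import Groth.Agent.Adic7.Lift
import Groth.Agent.CplFib6.Excellent
import Groth.Agent.FlatLoc6.GeomComp
import Groth.Agent.GeomReg.Basic
import Groth.Agent.FormalFib6.Transfer
import Mathlib.RingTheory.AdicCompletion.Functoriality

/-!
# Completions of quotients of regular rings
-/

set_option autoImplicit false
set_option linter.style.haveILetI false
set_option backward.isDefEq.respectTransparency false
set_option backward.isDefEq.respectTransparency.types false

universe u

namespace Groth.Agent.CplAway6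

/-- The completion of a quotient is a quotient of the completion. -/
theorem exists_surjection (B C : Type u) [CommRing B] [CommRing C] [IsNoetherianRing B] [IsNoetherianRing C]
    (π : B →+* C) (hπ : Function.Surjective π) (J : Ideal C) :
    ∃ τ : AdicCompletion (J.comap π) B →+* AdicCompletion J C, Function.Surjective τ := by
  letI : Algebra B C := π.toAlgebra
  let J' := J.comap π
  let Bh := AdicCompletion J' B
  let Ch := AdicCompletion J C
  have fgB : J'.FG := IsNoetherian.noetherian _
  have fgC : J.FG := IsNoetherian.noetherian _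
  haveI := AdicCompletion.isAdicComplete_self J' fgB
  haveI := AdicCompletion.isAdicComplete_self J fgC
  have hmap : J'.map (algebraMap B Ch) = J.map (algebraMap C Ch) := by
    rw [IsScalarTower.algebraMap_eq B C Ch, ← Ideal.map_map]
    exact congrArg _ (Ideal.map_comap_of_surjective π hπ J)
  obtain ⟨F, -⟩ := Adic7.exists_lift_completion (R := B) (S := B) (B := Ch) J' (J.map (algebraMap C Ch))
    (Algebra.ofId B Ch) hmap.le
  have hF : (J'.map (algebraMap B Bh)).map F.toRingHom = J.map (algebraMap C Ch) := by
    rw [Ideal.map_map, show F.toRingHom.comp (algebraMap B Bh) = algebraMap B Ch from F.comp_algebraMap, hmap]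
  haveI : IsHausdorff ((J'.map (algebraMap B Bh)).map F.toRingHom) Ch := by rw [hF]; infer_instance
  refine ⟨F.toRingHom, surjective_of_mk_map_comp_surjective (I := J'.map (algebraMap B Bh)) F.toRingHom fun z => ?_⟩
  obtain ⟨z, rfl⟩ := Ideal.Quotient.mk_surjective z
  obtain ⟨c, hc⟩ := Ideal.Quotient.mk_surjective (AdicCompletion.evalOneₐ J z)
  obtain ⟨b, rfl⟩ := hπ c
  refine ⟨algebraMap B Bh b, Ideal.Quotient.eq.mpr ?_⟩
  rw [hF, ← AdicCompletion.ker_evalOneₐ_eq_map J fgC, RingHom.mem_ker]
  show AdicCompletion.evalOneₐ J (F (algebraMap B Bh b) - z) = 0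
  rw [map_sub, AlgHom.commutes, IsScalarTower.algebraMap_apply B C Ch, AlgHom.commutes, ← hc]
  exact sub_self _

/-- The theorem. -/
theorem main (A : Type u) [CommRing A] (hn : EGA4.IsNormalRing A) (hexc : EGA4.IsExcellent A)
    (hreg : ∃ (R : Type u) (_ : CommRing R) (_ : IsRegularRing R) (φ : R →+* A), Function.Surjective φ)
    (I : Ideal A) (f : A) :
    EGA4.IsNormalRing (AdicCompletion (I.map (algebraMap A (Localization.Away f))) (Localization.Away f)) ∧
      ∃ (R' : Type u) (_ : CommRing R') (_ : IsRegularRing R')
        (ψ : R' →+* AdicCompletion (I.map (algebraMap A (Localization.Away f))) (Localization.Away f)),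
        Function.Surjective ψ := by
  haveI := hexc.1
  let C := Localization.Away f
  let J := I.map (algebraMap A C)
  haveI : IsNoetherianRing C := IsLocalization.isNoetherianRing (Submonoid.powers f) C ‹_›
  have hC := CplFib6.isExcellent_localization hexc (Submonoid.powers f) C
  haveI : IsNoetherianRing (AdicCompletion J C) := FormalFib6.isNoetherianRing_adicCompletion C J
  refine ⟨FlatLoc6.normal_of_isNormalHom C (AdicCompletion J C)
    (FlatLoc6.isNormalHom_of_isRegularHom (h := S0600.result C hC.2.2.1 J))
    (FlatLoc6.isNormalRing_of_isLocalization (Submonoid.powers f) C hn), ?_⟩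
  obtain ⟨R, _, _, φ, hφ⟩ := hreg
  obtain ⟨g, rfl⟩ := hφ f
  let Rg := Localization.Away g
  haveI : IsRegularRing Rg := GeomReg.isRegularRing_of_isLocalization (Submonoid.powers g) Rg
  let π : Rg →+* C := IsLocalization.Away.map Rg C φ g
  have hπ : Function.Surjective π := fun z => by
    obtain ⟨⟨a, ⟨s, n, rfl⟩⟩, rfl⟩ := IsLocalization.mk'_surjective (Submonoid.powers (φ g)) z
    obtain ⟨r, rfl⟩ := hφ a
    refine ⟨IsLocalization.mk' Rg r (⟨g ^ n, n, rfl⟩ : Submonoid.powers g), ?_⟩
    show IsLocalization.map C φ _ (IsLocalization.mk' Rg r (⟨g ^ n, n, rfl⟩ : Submonoid.powers g)) = _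
    rw [IsLocalization.map_mk']
    congr 1
    exact Subtype.ext (map_pow φ g n)
  obtain ⟨τ, hτ⟩ := exists_surjection Rg C π hπ J
  haveI := S5785.result Rg (J.comap π)
  exact ⟨_, inferInstance, inferInstance, τ, hτ⟩

end Groth.Agent.CplAway6
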